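import Groth.Agent.Lib.Descend19.Flat
import Groth.Agent.Lib.CI2.SyntScheme
import Groth.Agent.S9423

/-!
# Descent of syntomic morphisms along limits
-/

universe u

set_option backward.isDefEq.respectTransparency false
set_option backward.defeqAttrib.useBackward true
set_option linter.style.haveILetI false

open CategoryTheory CategoryTheory.Limits AlgebraicGeometry TensorProduct

namespace Groth.Agent.SyntDescend3

open Groth.Agent Groth.Agent.Descend
open Groth.Agent.CAlgLow.Descent

theorem syntHom_respectsIso : RingHom.RespectsIso @CI2.SyntHom.{u} :=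
  CI2.syntHom_propertyIsLocal.respectsIso

theorem syntHom_isStableUnderBaseChange : RingHom.IsStableUnderBaseChange @CI2.SyntHom.{u} := by
  refine RingHom.IsStableUnderBaseChange.mk syntHom_respectsIso ?_
  intro R S T _ _ _ _ _ h
  exact CI2.syntHom_algebraMap.mpr (S9423.isSyntomic_baseChange S (CI2.syntHom_algebraMap.mp h))

instance : MorphismProperty.IsStableUnderBaseChange CI2.syntMor.{u} :=
  HasRingHomProperty.isStableUnderBaseChange (Q := @CI2.SyntHom.{u}) syntHom_isStableUnderBaseChange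

theorem syntHom_away_source :
    RingHom.StableUnderCompositionWithLocalizationAwaySource @CI2.SyntHom.{u} := by
  intro R S T _ _ _ _ r _ f hf
  algebraize [f, f.comp (algebraMap R S)]
  exact CI2.syntHom_algebraMap.mpr ((CI2.isSyntomic_base_iff r S T).mpr (CI2.syntHom_algebraMap.mp hf))

theorem syntMor_comp_isOpenImmersion {A B C : Scheme.{u}} (a : A ⟶ B) (b : B ⟶ C)
    (ha : CI2.syntMor a) [IsOpenImmersion b] : CI2.syntMor (a ≫ b) :=
  (HasRingHomProperty.respects_isOpenImmersion (P := CI2.syntMor) syntHom_away_source).postcomp b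
    inferInstance a ha

/-- Syntomic models of syntomic algebras over finitely generated rings. -/
theorem exists_subalgebra_syntomic_model (A B : Type u) [CommRing A] [CommRing B] [Algebra A B]
    (h : Synt.IsSyntomic A B) :
    ∃ (A₀ : Subalgebra ℤ A) (B₀ : Type u) (_ : CommRing B₀) (_ : Algebra A₀ B₀),
      A₀.FG ∧ Synt.IsSyntomic A₀ B₀ ∧ Nonempty (B ≃ₐ[A] A ⊗[A₀] B₀) := by
  classical
  haveI := h.1
  haveI := h.2.1
  obtain ⟨A₀, B₀, _, _, hA₀, hfp, -, ⟨e⟩⟩ := Descend19.exists_subalgebra_flat_model A B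
  haveI := hfp
  let G : Finset A → Subalgebra A₀ A := fun s => Algebra.adjoin A₀ (s : Set A)
  let ρ : ∀ s, (G s) →ₐ[A₀] A := fun s => (G s).val
  have hmono : ∀ {s t : Finset A}, s ⊆ t → G s ≤ G t := fun hst =>
    Algebra.adjoin_mono (Finset.coe_subset.2 hst)
  have hc : IsColim ρ :=
    { nonempty := inferInstance
      lift := fun a => ⟨{a}, ⟨a, Algebra.subset_adjoin (by simp)⟩, rfl⟩
      dir := fun s t =>
        ⟨s ∪ t, ⟨⟨Subalgebra.inclusion (hmono Finset.subset_union_left), rfl⟩⟩,
          ⟨⟨Subalgebra.inclusion (hmono Finset.subset_union_right), rfl⟩⟩⟩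
      kill := fun s x hx => ⟨s, ⟨AlgHom.id _ _, AlgHom.comp_id _⟩, Subtype.ext hx⟩ }
  obtain ⟨s, hs⟩ := S9423.exists_syntomic hc B₀ (CI2.isSyntomic_congr e h)
  haveI : Algebra.FiniteType A₀ (G s) := (Subalgebra.fg_iff_finiteType _).1 ⟨s, rfl⟩
  haveI : Algebra.FiniteType ℤ A₀ := (Subalgebra.fg_iff_finiteType A₀).1 hA₀
  refine ⟨(G s).restrictScalars ℤ, (G s) ⊗[A₀] B₀, inferInstance,
    (inferInstance : Algebra (G s) ((G s) ⊗[A₀] B₀)), ?_, hs, ⟨?_⟩⟩
  · exact (Subalgebra.fg_iff_finiteType _).2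
      (Algebra.FiniteType.trans (R := ℤ) (S := A₀) (A := G s) inferInstance inferInstance)
  · exact e.trans (Algebra.TensorProduct.cancelBaseChange A₀ (G s) A A B₀).symm

variable {I : Type u} [SmallCategory I] [IsCofiltered I] {S X : Scheme.{u}} {D : I ⥤ Scheme.{u}}
  {t : D ⟶ (Functor.const I).obj S} {f : X ⟶ S} {c : Cone D} {q : c.pt ⟶ S}
  {P : Scheme.{u}} {p : P ⟶ X} {g : P ⟶ c.pt}
  [∀ i, IsAffineHom (t.app i)]

/-- The comparison with an affine model: syntomic. -/
theorem exists_syntomic_of_isAffine [IsAffine S] [IsAffine X] (hc : IsLimit c)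
    [LocallyOfFinitePresentation f] (hq : ∀ j, c.π.app j ≫ t.app j = q) (hP : IsPullback p g f q)
    (hg : CI2.syntMor g) : ∃ j, CI2.syntMor (pullback.snd f (t.app j)) := by
  haveI hD : ∀ k, IsAffine (D.obj k) := fun k => by
    haveI : IsAffine (((Functor.const I).obj S).obj k) := ‹IsAffine S›
    exact isAffine_of_isAffineHom (t.app k)
  haveI : IsAffine c.pt := Scheme.isAffine_of_isLimit _ hc
  haveI : IsAffine P := IsAffine.of_isPullback hP
  have hg' : CI2.SyntHom g.appTop.hom :=
    (HasRingHomProperty.iff_of_isAffine (P := CI2.syntMor)).1 hg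
  algebraize [g.appTop.hom]
  obtain ⟨A₀, B₀, _, _, hfg, hsy, ⟨e⟩⟩ :=
    exists_subalgebra_syntomic_model Γ(c.pt, ⊤) Γ(P, ⊤) hg'
  let b : Spec (CommRingCat.of A₀) ⟶ Spec (CommRingCat.of (ULift.{u} ℤ)) :=
    specULiftZIsTerminal.from _
  haveI : LocallyOfFinitePresentation b := locallyOfFinitePresentation_int A₀ hfg
  let m : Spec (CommRingCat.of B₀) ⟶ Spec (CommRingCat.of A₀) :=
    Spec.map (CommRingCat.ofHom (algebraMap A₀ B₀))
  have hm : CI2.syntMor m :=
    (HasRingHomProperty.Spec_iff (P := CI2.syntMor)).2 (CI2.syntHom_algebraMap.2 hsy)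
  haveI : LocallyOfFinitePresentation m :=
    (HasRingHomProperty.Spec_iff (P := @LocallyOfFinitePresentation)).2
      (RingHom.finitePresentation_algebraMap.2 hsy.2.1)
  obtain ⟨p₀, hM⟩ := exists_isPullback_model g A₀ B₀ e
  exact exists_of_model CI2.syntMor hc hq hP specULiftZIsTerminal b m hm _ hM

/-- Being syntomic descends, for quasi-compact source. -/
theorem exists_syntomic (hc : IsLimit c) [LocallyOfFinitePresentation f] [CompactSpace X]
    (hq : ∀ j, c.π.app j ≫ t.app j = q) (hP : IsPullback p g f q) (hg : CI2.syntMor g) :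
    ∃ j, CI2.syntMor (pullback.snd f (t.app j)) := by
  refine exists_of_affine CI2.syntMor (fun a b ha hb => ?_) hc hq hP hg ?_
  · have := hb
    exact syntMor_comp_isOpenImmersion a b ha
  · intro S' X' _ _ D' t' _ f' _ c' q' P' p' g' hc' hq' hP' hg'
    exact exists_syntomic_of_isAffine hc' hq' hP' hg'

end Groth.Agent.SyntDescend3
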